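import Cfsg.Agent.Lib.Classical.UnitaryOrder
import Cfsg.Agent.Lib.Forms.Families
import Cfsg.Prelude.Def_ClassicalGeometry

/-!
Stabilisers of non-degenerate subspaces in the unitary group.
-/

set_option autoImplicit false
set_option linter.unusedSectionVars false

namespace Cfsg.Agent.Lib.UnitaryStab

open Cfsg.Agent.Lib Cfsg.Agent.Lib.Classical

variable {F : Type*} [Field F] {q : ℕ}

/-- The stabiliser of `W` inside the isometry group. -/
def subStab {n : ℕ} (q : ℕ) (W : Submodule F (Fin n → F)) :
    Subgroup ↥(biIsoGroup (F := F) (Cfsg.hermForm n F q)) where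
  carrier := {g | ∀ v, v ∈ W ↔ g.1 v ∈ W}
  mul_mem' {a b} ha hb := fun v => (hb v).trans (ha (b.1 v))
  one_mem' := fun _ => Iff.rfl
  inv_mem' {a} ha := fun v => by
    have h := ha (a.1.symm v)
    rw [LinearEquiv.apply_symm_apply] at h
    exact h.symm

theorem guEquiv_coe {n : ℕ} (g : Cfsg.GU n F q) (v : Fin n → F) :
    (guEquiv n g).1 v = ((g : Matrix.GeneralLinearGroup (Fin n) F) : Matrix (Fin n) (Fin n) F).mulVec v := rfl

/-- The stabiliser in `GU` and the stabiliser among automorphisms agree. -/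
noncomputable def stabEquiv {n : ℕ} (W : Submodule F (Fin n → F)) :
    ↥((Cfsg.stabilizing (Cfsg.glToMat (Fin n) F) (W : Set (Fin n → F))).subgroupOf (Cfsg.GU n F q)) ≃*
      ↥(subStab q W) :=
  (MulEquiv.subgroupMap (guEquiv n) _).trans (MulEquiv.subgroupCongr (by
    ext g
    rw [Subgroup.mem_map]
    constructor
    · rintro ⟨a, ha, rfl⟩ v
      exact (Subgroup.mem_subgroupOf.1 ha) v
    · intro hg
      obtain ⟨a, rfl⟩ := (guEquiv n).surjective g
      exact ⟨a, Subgroup.mem_subgroupOf.2 (fun v => hg v), rfl⟩))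

/-- Moving the subspace by an isometry. -/
noncomputable def stabConj {n : ℕ} {W W' : Submodule F (Fin n → F)}
    (g : ↥(biIsoGroup (F := F) (Cfsg.hermForm n F q))) (h : ∀ v, v ∈ W ↔ g.1 v ∈ W') :
    ↥(subStab q W) ≃* ↥(subStab q W') :=
  (MulEquiv.subgroupMap (MulAut.conj g) _).trans (MulEquiv.subgroupCongr (by
    ext a
    rw [Subgroup.mem_map]
    constructor
    · rintro ⟨a, ha, rfl⟩ v
      show v ∈ W' ↔ g.1 (a.1 (g.1.symm v)) ∈ W'
      rw [← h, ← ha (g.1.symm v), h, LinearEquiv.apply_symm_apply]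
    · intro ha
      refine ⟨g⁻¹ * a * g, fun v => ?_, by simp [MulAut.conj_apply, mul_assoc]⟩
      show v ∈ W ↔ g.1.symm (a.1 (g.1 v)) ∈ W
      rw [h v, ha (g.1 v), h (g.1.symm (a.1 (g.1 v))), LinearEquiv.apply_symm_apply]))

/-- The first coordinates. -/
def headMap (F : Type*) [Field F] (k l : ℕ) : (Fin (k + l) → F) →ₗ[F] (Fin k → F) :=
  LinearMap.funLeft F F (Fin.castAdd l)

/-- The last coordinates. -/
def tailMap (F : Type*) [Field F] (k l : ℕ) : (Fin (k + l) → F) →ₗ[F] (Fin l → F) :=
  LinearMap.funLeft F F (Fin.natAdd k)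

/-- The standard subspace. -/
def headSpace (F : Type*) [Field F] (k l : ℕ) : Submodule F (Fin (k + l) → F) :=
  LinearMap.ker (tailMap F k l)

/-- Placing coordinates side by side. -/
def appendMap (F : Type*) [Field F] (k l : ℕ) : ((Fin k → F) × (Fin l → F)) ≃ₗ[F] (Fin (k + l) → F) where
  toFun p := Fin.append p.1 p.2
  invFun v := (headMap F k l v, tailMap F k l v)
  left_inv p := by
    refine Prod.ext (funext fun i => ?_) (funext fun i => ?_)
    · exact Fin.append_left _ _ i
    · exact Fin.append_right _ _ i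
  right_inv v := funext fun i => Fin.addCases (fun i => Fin.append_left _ _ i) (fun i => Fin.append_right _ _ i) i
  map_add' p p' := funext fun i => Fin.addCases (fun i => by simp) (fun i => by simp) i
  map_smul' c p := funext fun i => Fin.addCases (fun i => by simp) (fun i => by simp) i

theorem hermForm_append {k l : ℕ} (p p' : (Fin k → F) × (Fin l → F)) :
    Cfsg.hermForm (k + l) F q (appendMap F k l p) (appendMap F k l p') =
      Cfsg.hermForm k F q p.1 p'.1 + Cfsg.hermForm l F q p.2 p'.2 := by
  simp [Cfsg.hermForm, Fin.sum_univ_add, appendMap]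

theorem appendMap_mem {k l : ℕ} (p : (Fin k → F) × (Fin l → F)) :
    appendMap F k l p ∈ headSpace F k l ↔ p.2 = 0 := by
  rw [headSpace, LinearMap.mem_ker]
  have : tailMap F k l (appendMap F k l p) = p.2 := congrArg Prod.snd ((appendMap F k l).symm_apply_apply p)
  rw [this]

/-- Block diagonal isometries. -/
def blockHom (k l : ℕ) :
    ↥(biIsoGroup (F := F) (Cfsg.hermForm k F q)) × ↥(biIsoGroup (F := F) (Cfsg.hermForm l F q)) →*
      ↥(subStab (F := F) q (headSpace F k l)) where
  toFun p := ⟨⟨((appendMap F k l).symm.trans (p.1.1.prodCongr p.2.1)).trans (appendMap F k l), fun u v => by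
      simp only [LinearEquiv.trans_apply, LinearEquiv.prodCongr_apply]
      rw [hermForm_append, p.1.2, p.2.2]
      conv_rhs => rw [← (appendMap F k l).apply_symm_apply u, ← (appendMap F k l).apply_symm_apply v,
        hermForm_append]⟩, fun v => by
      obtain ⟨x, rfl⟩ := (appendMap F k l).surjective v
      show appendMap F k l x ∈ _ ↔ appendMap F k l _ ∈ _
      rw [appendMap_mem, appendMap_mem]
      simp⟩
  map_one' := by
    refine Subtype.ext (Subtype.ext (LinearEquiv.ext fun v => ?_))
    exact (appendMap F k l).apply_symm_apply v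
  map_mul' a b := by
    refine Subtype.ext (Subtype.ext (LinearEquiv.ext fun v => ?_))
    simp [LinearEquiv.mul_apply]

variable [Fintype F]

theorem blockHom_bijective (hF : Fintype.card F = q ^ 2) (k l : ℕ) :
    Function.Bijective (blockHom (F := F) (q := q) k l) := by
  have hq := Forms.two_le_of_card_sq hF
  have hz : ∀ {j : ℕ} (x : Fin j → F), Cfsg.hermForm j F q 0 x = 0 ∧ Cfsg.hermForm j F q x 0 = 0 :=
    fun x => ⟨by simp [Cfsg.hermForm], by simp [Cfsg.hermForm, zero_pow (show q ≠ 0 by omega)]⟩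
  constructor
  · rw [injective_iff_map_eq_one]
    rintro ⟨a, b⟩ h
    have key : ∀ p, (a.1 p.1, b.1 p.2) = p := fun p => (appendMap F k l).injective (by
      have h1 := congrArg (fun g : ↥(subStab (F := F) q (headSpace F k l)) => g.1.1 (appendMap F k l p)) h
      simpa [blockHom] using h1)
    exact Prod.ext (Subtype.ext (LinearEquiv.ext fun x => congrArg Prod.fst (key (x, 0))))
      (Subtype.ext (LinearEquiv.ext fun y => congrArg Prod.snd (key (0, y))))
  · rintro ⟨⟨g, hg⟩, hgW⟩
    let G : ((Fin k → F) × (Fin l → F)) ≃ₗ[F] ((Fin k → F) × (Fin l → F)) :=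
      ((appendMap F k l).trans g).trans (appendMap F k l).symm
    have hG : ∀ p, appendMap F k l (G p) = g (appendMap F k l p) := fun p =>
      (appendMap F k l).apply_symm_apply _
    have hGW : ∀ p, p.2 = 0 ↔ (G p).2 = 0 := fun p => by
      rw [← appendMap_mem, ← appendMap_mem, hG]; exact hgW _
    have hGf : ∀ p p', Cfsg.hermForm k F q (G p).1 (G p').1 + Cfsg.hermForm l F q (G p).2 (G p').2 =
        Cfsg.hermForm k F q p.1 p'.1 + Cfsg.hermForm l F q p.2 p'.2 := fun p p' => by
      rw [← hermForm_append, ← hermForm_append, hG, hG, hg]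
    -- the complement is preserved as well
    have hcomp : ∀ y, (G (0, y)).1 = 0 := by
      intro y
      obtain ⟨p, hp⟩ : ∃ p, G p = ((G (0, y)).1, 0) := G.surjective _
      have hp2 : p.2 = 0 := (hGW p).2 (by rw [hp])
      refine (Forms.hermSesq_goodForm (n := k) hF).nondeg _ fun z => ?_
      obtain ⟨r, hr⟩ := G.surjective (z, 0)
      have hr2 : r.2 = 0 := (hGW r).2 (by rw [hr])
      have := hGf r (0, y)
      rw [hr, hr2, (hz _).1, (hz _).1, add_zero, (hz _).2, add_zero] at this
      simpa using this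
    let A : (Fin k → F) →ₗ[F] (Fin k → F) := (LinearMap.fst F _ _).comp (G.toLinearMap.comp (LinearMap.inl F _ _))
    let B : (Fin l → F) →ₗ[F] (Fin l → F) := (LinearMap.snd F _ _).comp (G.toLinearMap.comp (LinearMap.inr F _ _))
    have hA : ∀ x, G (x, 0) = (A x, 0) := fun x => Prod.ext rfl ((hGW (x, 0)).1 rfl)
    have hB : ∀ y, G (0, y) = (0, B y) := fun y => Prod.ext (hcomp y) rfl
    have hAf : ∀ u v, Cfsg.hermForm k F q (A u) (A v) = Cfsg.hermForm k F q u v := fun u v => by
      simpa [hA, (hz _).1] using hGf (u, 0) (v, 0)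
    have hBf : ∀ u v, Cfsg.hermForm l F q (B u) (B v) = Cfsg.hermForm l F q u v := fun u v => by
      simpa [hB, (hz _).1] using hGf (0, u) (0, v)
    obtain ⟨ga, hga, hga'⟩ := (Forms.hermSesq_goodForm (n := k) hF).exists_equiv_of_preserves A
      fun u v => hAf v u
    obtain ⟨gb, hgb, hgb'⟩ := (Forms.hermSesq_goodForm (n := l) hF).exists_equiv_of_preserves B
      fun u v => hBf v u
    refine ⟨(⟨ga, fun u v => hga' v u⟩, ⟨gb, fun u v => hgb' v u⟩), Subtype.ext (Subtype.ext (LinearEquiv.ext fun v => ?_))⟩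
    obtain ⟨⟨x, y⟩, rfl⟩ := (appendMap F k l).surjective v
    show appendMap F k l ((ga.prodCongr gb) ((appendMap F k l).symm (appendMap F k l (x, y)))) = g _
    rw [(appendMap F k l).symm_apply_apply, ← hG, show ((x, y) : (Fin k → F) × (Fin l → F)) = (x, 0) + (0, y) by simp,
      map_add G, hA, hB]
    simp [hga, hgb]

/-- A non-degenerate subspace is moved to the standard one by an isometry. -/
theorem exists_move (hF : Fintype.card F = q ^ 2) (k l : ℕ) (W : Submodule F (Fin (k + l) → F))
    (hWk : Module.finrank F W = k)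
    (hW : ∀ u ∈ W, (∀ v ∈ W, Cfsg.hermForm (k + l) F q u v = 0) → u = 0) :
    ∃ g : ↥(biIsoGroup (F := F) (Cfsg.hermForm (k + l) F q)), ∀ v, v ∈ W ↔ g.1 v ∈ headSpace F k l := by
  classical
  have hgood := Forms.hermSesq_goodForm (n := k + l) hF
  set σ := Forms.qPowHom hF
  have hσ : σ ≠ RingHom.id F := Forms.qPowHom_ne_id hF
  let B' : W →ₛₗ[σ] W →ₗ[F] F :=
    LinearMap.mk₂'ₛₗ σ (RingHom.id F) (fun x y => Forms.hermSesq hF (k + l) x.1 y.1)
      (fun x y z => by simp only [Submodule.coe_add, map_add, LinearMap.add_apply])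
      (fun c x y => by simp [σ, Submodule.coe_smul, LinearMap.map_smulₛₗ, -Forms.hermSesq_apply])
      (fun x y z => by simp only [Submodule.coe_add, map_add])
      (fun c x y => by simp only [Submodule.coe_smul, map_smul, RingHom.id_apply])
  have hS' : B'.IsSymm := ⟨fun x y => (Forms.hermSesq_isSymm hF).eq x.1 y.1⟩
  have hgood' : Forms.IsGoodForm B' 1 :=
    { eps_sq := by simp
      invol := Forms.qPowHom_qPowHom hF
      herm := fun x y => by
        rw [one_mul]
        exact (hS'.eq x y).symm
      nondeg := fun x hx => Subtype.ext (hW x.1 x.2 fun v hv => by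
        have := hgood.eq_zero_symm (hx ⟨v, hv⟩)
        simpa using this)
      trace := fun a => hgood.trace a.1 }
  have hfam : ∀ j ≤ k, ∃ v : Fin j → W, (∀ i i', i ≠ i' → B' (v i) (v i') = 0) ∧ ∀ i, B' (v i) (v i) = 1 := by
    intro j hj
    induction j with
    | zero => exact ⟨Fin.elim0, fun i => i.elim0, fun i => i.elim0⟩
    | succ j ih =>
      obtain ⟨v, hv, hv1⟩ := ih (by omega)
      obtain ⟨w, hw, hww⟩ := hgood'.exists_orth_anisotropic
        (fun U h0 => Forms.hermitian_polarization hσ hS' U h0) hv (fun i => by simp [hv1]) (by omega)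
      obtain ⟨c, hc⟩ := Forms.exists_norm_eq hσ (Forms.qPowHom_qPowHom hF) (c := (B' w w)⁻¹)
        (by rw [map_inv₀, hS'.eq w w])
      refine ⟨Fin.snoc v (c • w), fun i i' => ?_, fun i => ?_⟩
      · refine Fin.lastCases ?_ (fun i => ?_) i <;> refine Fin.lastCases ?_ (fun i' => ?_) i' <;>
          intro hii' <;> simp only [Fin.snoc_last, Fin.snoc_castSucc]
        · exact absurd rfl hii'
        · rw [LinearMap.map_smulₛₗ, LinearMap.smul_apply, hgood'.eq_zero_symm (hw i'), smul_zero]
        · rw [map_smul, hw i, smul_zero]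
        · exact hv i i' fun e => hii' (congrArg Fin.castSucc e)
      · refine Fin.lastCases ?_ (fun i => ?_) i <;> simp only [Fin.snoc_last, Fin.snoc_castSucc]
        · rw [map_smul, LinearMap.map_smulₛₗ B', LinearMap.smul_apply, smul_eq_mul, smul_eq_mul, ← mul_assoc,
            hc, inv_mul_cancel₀ hww]
        · exact hv1 i
  obtain ⟨v, hv, hv1⟩ := hfam k le_rfl
  have hvli : LinearIndependent F v :=
    Forms.linearIndependent_of_orthogonal hv (fun i => by simp [hv1])
  let e₀ : Fin k → Fin (k + l) → F := fun i => Pi.single (Fin.castAdd l i) 1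
  have he : ∀ i i', Cfsg.hermForm (k + l) F q (e₀ i) (e₀ i') = if i = i' then 1 else 0 := by
    intro i i'
    have hq := Forms.two_le_of_card_sq hF
    simp only [Cfsg.hermForm, e₀]
    rw [Finset.sum_eq_single (Fin.castAdd l i) (fun b _ hb => by simp [hb]) (by simp)]
    by_cases h : i = i'
    · subst h; simp
    · have : Fin.castAdd l i ≠ Fin.castAdd l i' := fun e => h (Fin.castAdd_injective _ _ e)
      simp [h, this, zero_pow (show q ≠ 0 by omega)]
  have he₀ : LinearIndependent F e₀ :=
    (Pi.basisFun F (Fin (k + l))).linearIndependent.comp _ (Fin.castAdd_injective k l) |> fun h => by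
      convert h using 1
      funext i; simp [e₀]
  obtain ⟨g, hg, hgv⟩ := hgood.witt_family (fun i => (v i : Fin (k + l) → F)) e₀
    (hvli.map' W.subtype W.ker_subtype) he₀ (fun i i' => by
      simp only [Forms.hermSesq_apply, he]
      rcases eq_or_ne i i' with rfl | h
      · rw [if_pos rfl]; exact hv1 i
      · rw [if_neg h.symm]; exact hv i i' h)
  refine ⟨⟨g, fun a b => hg b a⟩, fun x => ?_⟩
  show x ∈ W ↔ g x ∈ headSpace F k l
  have hmap : W.map g.toLinearMap = headSpace F k l := by
    refine Submodule.eq_of_le_of_finrank_eq ?_ ?_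
    · rintro _ ⟨w, hw, rfl⟩
      let b := basisOfLinearIndependentOfCardEqFinrank' v hvli (by simp [hWk])
      have hb : ⇑b = v := coe_basisOfLinearIndependentOfCardEqFinrank' _ _ _
      have hw' : w = ∑ i, b.repr ⟨w, hw⟩ i • (v i : Fin (k + l) → F) := by
        have := congrArg Subtype.val (b.sum_repr ⟨w, hw⟩).symm
        simp only [hb, Submodule.coe_sum, Submodule.coe_smul] at this
        exact this
      rw [LinearEquiv.coe_coe, hw', map_sum]
      refine Submodule.sum_mem _ fun i _ => ?_
      rw [map_smul, hgv]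
      refine Submodule.smul_mem _ _ (LinearMap.mem_ker.2 (funext fun j => ?_))
      show (Pi.single (Fin.castAdd l i) (1 : F) : Fin (k + l) → F) (Fin.natAdd k j) = 0
      refine Pi.single_eq_of_ne (fun h => ?_) _
      have := congrArg Fin.val h
      simp at this
      omega
    · rw [LinearEquiv.finrank_map_eq, hWk]
      have h1 := (LinearMap.funLeft F F (Fin.natAdd k : Fin l → Fin (k + l))).finrank_range_add_finrank_ker
      rw [LinearMap.range_eq_top.2 (LinearMap.funLeft_surjective_of_injective F F _ (Fin.natAdd_injective l k)),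
        finrank_top, Module.finrank_fintype_fun_eq_card F, Module.finrank_fintype_fun_eq_card F,
        Fintype.card_fin, Fintype.card_fin] at h1
      exact ((Nat.add_left_cancel (h1.trans (add_comm k l)))).symm
  rw [← hmap]
  constructor
  · exact fun h => Submodule.mem_map_of_mem h
  · rintro ⟨w, hw, he⟩
    rwa [← g.injective he]

theorem nonempty_stab_equiv (hF : Fintype.card F = q ^ 2) (k l : ℕ) (W : Submodule F (Fin (k + l) → F))
    (hWk : Module.finrank F W = k)
    (hW : ∀ u ∈ W, (∀ v ∈ W, Cfsg.hermForm (k + l) F q u v = 0) → u = 0) :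
    Nonempty (↥((Cfsg.stabilizing (Cfsg.glToMat (Fin (k + l)) F) (W : Set (Fin (k + l) → F))).subgroupOf
      (Cfsg.GU (k + l) F q)) ≃* ↥(Cfsg.GU k F q) × ↥(Cfsg.GU l F q)) := by
  obtain ⟨g, hg⟩ := exists_move hF k l W hWk hW
  exact ⟨((stabEquiv W).trans (stabConj g hg)).trans
    ((MulEquiv.ofBijective _ (blockHom_bijective hF k l)).symm.trans
      (((guEquiv k).symm).prodCongr ((guEquiv l).symm)))⟩

end Cfsg.Agent.Lib.UnitaryStab
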